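import Mathlib
import Cfsg.Agent.Lib.Helper14.PG63.Defs

/-!
# Project PG63 (S3664): package [LPRIME]

The prime element orders of `L = Sz(8) ⋊ ⟨frobenius⟩` are `2, 3, 5, 7, 13`: an element with
nontrivial field automorphism part has order divisible by 3; an element `(t, 1)` has `t ^ 4`,
`t ^ 5`, `t ^ 7` or `t ^ 13 = 1` by [CLS].
-/

set_option autoImplicit false

namespace Cfsg.Agent.Lib.Helper46.PG63

open Matrix Cfsg.Agent.Lib.Helper14.PG63

universe u

/-- **[LPRIME]** -/
theorem pkgLPrime : PkgLPrime.{u} := by
  intro hStr hCls hFrob F _ _ _ hcard x p hp hx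
  obtain ⟨hP, hτ⟩ := hStr hcard (x : Amb F) x.2
  obtain ⟨hfrob, -⟩ := hFrob (F := F) hcard
  have hyp : orderOf (x : Amb F) = p := by rw [Subgroup.orderOf_coe]; exact hx
  have hpow : (x : Amb F) ^ p = 1 := by rw [← hyp]; exact pow_orderOf_eq_one _
  have hrp : (x : Amb F).right ^ p = 1 := by
    have h := congrArg SemidirectProduct.right hpow
    rw [← SemidirectProduct.rightHom_eq_right, map_pow] at h
    simpa using h
  have hd2 : orderOf (x : Amb F).right ∣ 3 := by
    rw [← hfrob]
    exact orderOf_dvd_of_mem_zpowers hτ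
  by_cases hr1 : (x : Amb F).right = 1
  · have hinl : (x : Amb F) = SemidirectProduct.inl (x : Amb F).left := by
      apply SemidirectProduct.ext
      · rw [SemidirectProduct.left_inl]
      · rw [SemidirectProduct.right_inl, hr1]
    have hol : orderOf (x : Amb F).left = p := by
      rw [← hyp]
      conv_rhs => rw [hinl]
      exact (orderOf_injective (SemidirectProduct.inl : GL (Fin 4) F →* Amb F)
        SemidirectProduct.inl_injective _).symm
    have key : ∀ n : ℕ, ((x : Amb F).left : Matrix (Fin 4) (Fin 4) F) ^ n = 1 → p ∣ n := by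
      intro n hn
      rw [← hol]
      apply orderOf_dvd_of_pow_eq_one
      apply Units.ext
      rw [Units.val_pow_eq_pow_val, hn, Units.val_one]
    rcases hCls hcard _ hP with ⟨-, h4⟩ | ⟨-, h5⟩ | ⟨-, h7⟩ | ⟨-, h13⟩
    · have hd : p ∣ 2 ^ 2 := by
        have h := key 4 h4
        norm_num
        exact h
      left
      exact (Nat.prime_dvd_prime_iff_eq hp Nat.prime_two).mp (hp.dvd_of_dvd_pow hd)
    · right; right; left
      exact (Nat.prime_dvd_prime_iff_eq hp (by norm_num)).mp (key 5 h5)
    · right; right; right; left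
      exact (Nat.prime_dvd_prime_iff_eq hp (by norm_num)).mp (key 7 h7)
    · right; right; right; right
      exact (Nat.prime_dvd_prime_iff_eq hp (by norm_num)).mp (key 13 h13)
  · have h3 : orderOf (x : Amb F).right = 3 := by
      rcases (Nat.dvd_prime Nat.prime_three).mp hd2 with h | h
      · exact absurd (orderOf_eq_one_iff.mp h) hr1
      · exact h
    have hd : 3 ∣ p := by
      rw [← h3]
      exact orderOf_dvd_of_pow_eq_one hrp
    right; left
    exact ((Nat.prime_dvd_prime_iff_eq Nat.prime_three hp).mp hd).symm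

end Cfsg.Agent.Lib.Helper46.PG63
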