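import Mathlib
import Cfsg.Agent.Lib.Helper14.PG63.Defs

/-!
# Project PG63 (S3664): package [STR] — the elements of `L = Sz(8) ⋊ ⟨frobenius⟩`

Closure induction: every element `(g, τ)` of `L` has `Pred g` and `τ ∈ ⟨frobenius⟩`.
-/

set_option autoImplicit false

namespace Cfsg.Agent.Lib.Helper46.PG63

open Matrix Cfsg.Agent.Lib.Helper14.PG63

universe u

/-- The identity matrix satisfies `Pred`. -/
theorem pred_one {F : Type u} [Field F] : Pred (1 : Matrix (Fin 4) (Fin 4) F) := by
  constructor
  · simp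
  · ext p r
    fin_cases p <;> fin_cases r <;> simp [Cfsg.Lie.star4, Cfsg.Lie.pairOf, Matrix.one_apply]

/-- **[STR]** -/
theorem pkgStr : PkgStr.{u} := by
  intro hPM hPI hPMap F _ _ _ hcard x hx
  induction hx using Subgroup.closure_induction with
  | mem y hy =>
    rcases hy with ⟨hy1, hy2⟩ | hy
    · exact ⟨hy1, by rw [hy2]; exact Subgroup.one_mem _⟩
    · rw [Set.mem_singleton_iff] at hy
      rw [hy]
      refine ⟨?_, ?_⟩
      · rw [SemidirectProduct.left_inr, Units.val_one]
        exact pred_one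
      · rw [SemidirectProduct.right_inr]
        exact Subgroup.mem_zpowers _
  | one =>
    refine ⟨?_, ?_⟩
    · rw [SemidirectProduct.one_left, Units.val_one]
      exact pred_one
    · rw [SemidirectProduct.one_right]
      exact Subgroup.one_mem _
  | mul y z _ _ ihy ihz =>
    obtain ⟨hy1, hy2⟩ := ihy
    obtain ⟨hz1, hz2⟩ := ihz
    refine ⟨?_, ?_⟩
    · rw [SemidirectProduct.mul_left, Units.val_mul, mapHom_coe]
      exact hPM _ _ hy1 (hPMap (RingEquiv.toRingHom y.right) _ hz1)
    · rw [SemidirectProduct.mul_right]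
      exact Subgroup.mul_mem _ hy2 hz2
  | inv y _ ih =>
    obtain ⟨hy1, hy2⟩ := ih
    refine ⟨?_, ?_⟩
    · rw [SemidirectProduct.inv_left, mapHom_coe]
      exact hPMap (RingEquiv.toRingHom y.right⁻¹) _
        (hPI _ _ hy1 (by rw [← Units.val_mul, mul_inv_cancel, Units.val_one]))
    · rw [SemidirectProduct.inv_right]
      exact Subgroup.inv_mem _ hy2

end Cfsg.Agent.Lib.Helper46.PG63
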